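import Cfsg.Agent.Lib.Alperin.PGroup
import Cfsg.Agent.Lib.FixedFree.Cores
import Cfsg.Agent.Lib.Solvable.HallHigman

/-!
# The derived length of a solvable group with few fixed points of an automorphism of order `p`
-/

set_option autoImplicit false

namespace CfsgLib.Alperin

open Subgroup CfsgLib.LieFpf
open scoped commutatorElement

universe u

variable {G : Type u} [Group G]

theorem mem_of_characteristic (K : Subgroup G) [hK : K.Characteristic] (α : MulAut G) :
    ∀ x ∈ K, α x ∈ K := fun _ hx =>
  (Subgroup.characteristic_iff_map_eq.1 hK α).le (mem_map_of_mem α.toMonoidHom hx)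

/-- A solvable group with trivial `O_{p'}` has its derived series reach `O_p` early, given few fixed
points. -/
theorem derivedSeries_le_pCore [Finite G] [Group.IsSolvable G] (p : ℕ) [hp : Fact p.Prime] {n : ℕ}
    {α : MulAut G} (h : Small p n α) (hO : Cfsg.pPrimeCore p G = ⊥) :
    derivedSeries G (p ^ (n * (p * 1))).factorial ≤ Cfsg.pCore p G := by
  classical
  set U := Cfsg.pCore p G with hU
  have hUc : U.Characteristic := Solvable.pCore_characteristic p G
  have hUn : U.Normal := Subgroup.normal_of_characteristic U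
  have hUp : IsPGroup p U := Solvable.pCore_isPGroup p
  set Φ := (frattini U).map U.subtype with hΦ
  have hΦn : Φ.Normal := Solvable.map_subtype_normal _
  have hΦα : ∀ x ∈ Φ, α x ∈ Φ := by
    rintro _ ⟨y, hy, rfl⟩
    exact ⟨_, mem_of_characteristic (frattini U)
      (Complement.restrictAut α U (mem_of_characteristic U α)) y hy, rfl⟩
  have hcomm : ⁅U, U⁆ ≤ Φ := commutator_le.2 fun a ha b hb => by
    refine ⟨_, StructC.comm_mem_frattini hUp (⟨a, ha⟩ : U)⁻¹ (⟨b, hb⟩ : U)⁻¹, ?_⟩
    simp [commutatorElement_def]
  have hexp : ∀ a ∈ U, a ^ p ^ 1 ∈ Φ := fun a ha =>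
    ⟨_, StructC.pow_mem_frattini hUp (⟨a, ha⟩ : U), by rw [pow_one]; rfl⟩
  refine (derivedSeries_le_secCentralizer hp.out h U Φ (mem_of_characteristic U α) hΦα hcomm
    hexp).trans ?_
  refine Solvable.le_pCore secCentralizer_normal fun g => ?_
  have hg0 : orderOf (g : G) ≠ 0 := (orderOf_pos _).ne'
  obtain ⟨a, m, hm, hgm⟩ := Nat.exists_eq_pow_mul_and_not_dvd hg0 p hp.out.ne_one
  have hs : orderOf ((g : G) ^ p ^ a) = m := by
    rw [orderOf_pow' _ (pow_pos hp.out.pos a).ne', hgm, Nat.gcd_eq_right (Dvd.intro m rfl),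
      Nat.mul_div_cancel_left _ (pow_pos hp.out.pos a)]
  set s := (g : G) ^ p ^ a with hsdef
  have hscop : (Nat.card (zpowers s)).Coprime p := by
    rw [Nat.card_zpowers, hs]
    exact ((hp.out.coprime_iff_not_dvd).2 hm).symm
  have hb := FixedFree.commutator_eq_bot_of_le_frattiniIn hUp
    (by rw [Subgroup.normalizer_eq_top]; exact le_top) hscop fun t ht u hu =>
      mem_secCentralizer.1 (zpowers_le.2 (pow_mem g.2 _) ht) u hu
  have hsU : s ∈ U := Solvable.centralizer_pCore_le p hO (mem_centralizer_iff.2 fun u hu =>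
    commutatorElement_eq_one_iff_mul_comm.1
      (mem_bot.1 (hb ▸ commutator_mem_commutator hu (mem_zpowers s))))
  obtain ⟨b, hb'⟩ := hUp ⟨s, hsU⟩
  refine ⟨a + b, Subtype.ext ?_⟩
  have := congrArg Subtype.val hb'
  simpa [hsdef, pow_add, pow_mul] using this

/-- Alperin's bound. -/
def alperinBound (p n : ℕ) [Fact p.Prime] : ℕ :=
  (p ^ (n * (p * 1))).factorial + pBound p n + (xi p (2 ^ (p - 1) - 1))

/-- Alperin: the derived length of a solvable group with an automorphism of order `p` fixing
`p ^ n` elements is bounded in terms of `p` and `n`. -/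
theorem derivedSeries_eq_bot_of_small [Finite G] [Group.IsSolvable G] (p : ℕ) [hp : Fact p.Prime]
    {n : ℕ} (α : MulAut G) (hα : α ^ p = 1) (hfix : Nat.card {g : G // α g = g} = p ^ n) :
    derivedSeries G (alperinBound p n) = ⊥ := by
  classical
  have h : Small p n α := ⟨hα, hfix.le⟩
  set O := Cfsg.pPrimeCore p G with hO
  have hOc : O.Characteristic := Solvable.pPrimeCore_characteristic p G
  have hOn : O.Normal := Subgroup.normal_of_characteristic O
  have hOα := mem_of_characteristic O α
  -- no fixed points in `O`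
  have hfree : ∀ x : O, Complement.restrictAut α O hOα x = x → x = 1 := fun x hx => by
    let F : Subgroup G :=
      { carrier := {g | α g = g}
        one_mem' := map_one α
        mul_mem' := fun {a b} ha hb => by
          show α (a * b) = a * b
          rw [map_mul, show α a = a from ha, show α b = b from hb]
        inv_mem' := fun {a} ha => by
          show α a⁻¹ = a⁻¹
          rw [map_inv, show α a = a from ha] }
    have hF : Nat.card F = p ^ n := hfix
    have h1 : orderOf (x : G) ∣ p ^ n := by
      have h0 := orderOf_dvd_natCard (⟨(x : G), congrArg Subtype.val hx⟩ : F)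
      rw [hF, ← Subgroup.orderOf_coe] at h0
      exact h0
    have h2 : orderOf (x : G) ∣ Nat.card O := by
      rw [Subgroup.orderOf_coe]; exact orderOf_dvd_natCard x
    have h3 := Nat.eq_one_of_dvd_coprimes
      ((Solvable.pPrimeCore_coprime (G := G) p).symm.pow_left n) h1 h2
    exact Subtype.ext (orderOf_eq_one_iff.1 h3)
  have hOd : derivedSeries O (xi p (2 ^ (p - 1) - 1)) = ⊥ := by
    refine le_bot_iff.1 ((derivedSeries_le_gam _).trans (le_of_eq ?_))
    exact LieFpf.lowerCentralSeries_eq_bot_of_bound p (fun hgr d => central_eq_bot hgr d)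
      (Complement.restrictAut α O hOα) (h.restrict O hOα).pow_eq hfree
  refine derivedSeries_add_eq_bot O (derivedSeries_le_of_quotient O ?_) hOd
  obtain ⟨β, hβ, -⟩ := h.exists_quotient O hOα
  have hsol : Group.IsSolvable (G ⧸ O) :=
    Group.isSolvable_of_surjective (QuotientGroup.mk'_surjective O)
  have hU := derivedSeries_le_pCore p hβ (Solvable.pPrimeCore_quotient_eq_bot p)
  have hUc : (Cfsg.pCore p (G ⧸ O)).Characteristic := Solvable.pCore_characteristic p _
  exact derivedSeries_add_eq_bot _ hU (derivedSeries_eq_bot_of_isPGroup p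
    (Solvable.pCore_isPGroup p) (hβ.restrict _ (mem_of_characteristic _ β)))

end CfsgLib.Alperin
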