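import Cfsg.Agent.Lib.Complement.FpfNilpotent
import Mathlib

/-!
# Automorphisms of order `p` with few fixed points
-/

set_option autoImplicit false

namespace CfsgLib.Alperin

open Subgroup

universe u

variable {G : Type u} [Group G]

/-- `α ^ p = 1` and `α` fixes at most `p ^ n` elements. -/
structure Small (p n : ℕ) (α : MulAut G) : Prop where
  pow_eq : α ^ p = 1
  card_le : Nat.card {g : G // α g = g} ≤ p ^ n

/-- The restriction to an invariant subgroup has no more fixed points. -/
theorem Small.restrict [Finite G] {p n : ℕ} {α : MulAut G} (h : Small p n α) (S : Subgroup G)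
    (hS : ∀ x ∈ S, α x ∈ S) : Small p n (Complement.restrictAut α S hS) where
  pow_eq := MulEquiv.ext fun x => Subtype.ext (by
    rw [Complement.restrictAut_pow, h.pow_eq]; rfl)
  card_le := le_trans (Nat.card_le_card_of_injective
    (fun x : {g : S // Complement.restrictAut α S hS g = g} =>
      (⟨((x.1 : S) : G), congrArg Subtype.val x.2⟩ : {g : G // α g = g}))
    fun x y e => Subtype.ext (Subtype.ext (congrArg (Subtype.val (p := fun g : G => α g = g)) e))) h.card_le

/-- A quotient by an invariant normal subgroup has no more fixed points. -/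
theorem card_fixed_quotient_le [Finite G] (α : MulAut G) (N : Subgroup G) [N.Normal]
    (β : MulAut (G ⧸ N)) (hβ : ∀ g : G, β g = (α g : G)) :
    Nat.card {x : G ⧸ N // β x = x} ≤ Nat.card {g : G // α g = g} := by
  classical
  let X := {g : G // g⁻¹ * α g ∈ N}
  let d : X → N := fun g => ⟨g.1⁻¹ * α g.1, g.2⟩
  have hs : ∀ g : X, ∃ h : G, h⁻¹ * α h = (d g : G) := fun g => ⟨g.1, rfl⟩
  let s : N → G := fun m => if h : ∃ h : G, h⁻¹ * α h = (m : G) then h.choose else 1
  have hsd : ∀ g : X, (s (d g))⁻¹ * α (s (d g)) = (d g : G) := fun g => by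
    simp only [s, dif_pos (hs g)]; exact (hs g).choose_spec
  have hfix : ∀ g : X, α (g.1 * (s (d g))⁻¹) = g.1 * (s (d g))⁻¹ := fun g => by
    have e := hsd g
    rw [map_mul, map_inv, mul_inv_eq_iff_eq_mul]
    calc α g.1 = g.1 * (g.1⁻¹ * α g.1) := by group
      _ = g.1 * ((s (d g))⁻¹ * α (s (d g))) := by rw [e]
      _ = g.1 * (s (d g))⁻¹ * α (s (d g)) := by group
  have h1 : Nat.card X ≤ Nat.card (N × {g : G // α g = g}) :=
    Nat.card_le_card_of_injective (fun g => (d g, ⟨_, hfix g⟩)) fun g g' e => by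
      obtain ⟨e1, e2⟩ := Prod.mk.injEq .. ▸ e
      have e2' : g.1 * (s (d g))⁻¹ = g'.1 * (s (d g'))⁻¹ := congrArg Subtype.val e2
      rw [e1] at e2'
      exact Subtype.ext (mul_right_cancel e2')
  have hmem : ∀ (x : {x : G ⧸ N // β x = x}) (m : N),
      (Quotient.out x.1 * (m : G))⁻¹ * α (Quotient.out x.1 * (m : G)) ∈ N := fun x m => by
    rw [← QuotientGroup.eq, ← hβ, QuotientGroup.mk_mul_of_mem _ m.2, QuotientGroup.out_eq']
    exact x.2.symm
  have h2 : Nat.card ({x : G ⧸ N // β x = x} × N) ≤ Nat.card X :=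
    Nat.card_le_card_of_injective (fun q => (⟨_, hmem q.1 q.2⟩ : X)) fun q q' e => by
      have e' : Quotient.out q.1.1 * (q.2 : G) = Quotient.out q'.1.1 * (q'.2 : G) :=
        congrArg Subtype.val e
      have e3 := congrArg (fun g : G => (g : G ⧸ N)) e'
      simp only [QuotientGroup.mk_mul_of_mem _ q.2.2, QuotientGroup.mk_mul_of_mem _ q'.2.2,
        QuotientGroup.out_eq'] at e3
      rw [e3] at e'
      exact Prod.ext (Subtype.ext e3) (Subtype.ext (mul_left_cancel e'))
  have h3 := h2.trans h1
  rw [Nat.card_prod, Nat.card_prod, mul_comm (Nat.card N)] at h3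
  exact Nat.le_of_mul_le_mul_right h3 Nat.card_pos

/-- The induced automorphism of a quotient. -/
theorem Small.exists_quotient [Finite G] {p n : ℕ} {α : MulAut G} (h : Small p n α) (N : Subgroup G)
    [N.Normal] (hN : ∀ x ∈ N, α x ∈ N) :
    ∃ β : MulAut (G ⧸ N), Small p n β ∧ ∀ g : G, β g = (α g : G) := by
  let β : MulAut (G ⧸ N) := QuotientGroup.congr N N α (Complement.map_eq_of_invariant α N hN)
  have hβ : ∀ g : G, β g = (α g : G) := fun g => rfl
  refine ⟨β, ⟨MulEquiv.ext fun x => ?_, (card_fixed_quotient_le α N β hβ).trans h.card_le⟩, hβ⟩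
  obtain ⟨g, rfl⟩ := QuotientGroup.mk_surjective x
  have : ∀ k : ℕ, (β ^ k) (g : G ⧸ N) = ((α ^ k) g : G) := by
    intro k
    induction k with
    | zero => rfl
    | succ k ih => rw [pow_succ', pow_succ', MulAut.mul_apply, MulAut.mul_apply, ih, hβ]
  rw [this, h.pow_eq]
  rfl

/-- An abelian group of exponent `p ^ j` with at most `p ^ n` fixed points of an automorphism of
order `p` has order at most `p ^ (n * (p * j))`. -/
theorem card_le_of_comm {A : Type u} [CommGroup A] [Finite A] {p n j : ℕ} (hp : p.Prime)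
    {α : MulAut A} (h : Small p n α) (hexp : ∀ a : A, a ^ p ^ j = 1) :
    Nat.card A ≤ p ^ (n * (p * j)) := by
  let a : AddMonoid.End (Additive A) := MonoidHom.toAdditive α.toMonoidHom
  have hak : ∀ (k : ℕ) (x : Additive A), (a ^ k) x = Additive.ofMul ((α ^ k) x.toMul) := by
    intro k
    induction k with
    | zero => intro x; rfl
    | succ k ih =>
      intro x
      rw [pow_succ, AddMonoid.End.coe_mul, Function.comp_apply, ih, pow_succ, MulAut.mul_apply]
      rfl
  have hap : a ^ p = 1 := AddMonoidHom.ext fun x => by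
    refine (hak p x).trans ?_
    rw [h.pow_eq]; rfl
  obtain ⟨r, hr⟩ := (Commute.neg_one_right a).exists_add_pow_prime_eq hp
  set δ : AddMonoid.End (Additive A) := a + -1 with hδ
  obtain ⟨r', hr'⟩ : ∃ r', δ ^ p = (p : AddMonoid.End (Additive A)) * r' := by
    rw [hr, hap]
    rcases hp.eq_two_or_odd' with hp2 | hodd
    · subst hp2
      exact ⟨1 + a * -1 * r, by
        rw [even_two.neg_one_pow, Nat.cast_ofNat, mul_add, mul_one, one_add_one_eq_two]; simp only [mul_assoc]⟩
    · exact ⟨a * -1 * r, by rw [hodd.neg_one_pow, add_neg_cancel, zero_add]; simp only [mul_assoc]⟩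
  have hzero : ∀ x : Additive A, (δ ^ (p * j)) x = 0 := fun x => by
    rw [pow_mul, hr', (Nat.cast_commute p r').mul_pow, ← Nat.cast_pow, AddMonoid.End.coe_mul,
      Function.comp_apply, AddMonoid.End.natCast_apply]
    exact hexp _
  have hfix : ∀ x : Additive A, δ x = 0 → α x.toMul = x.toMul := fun x hx => by
    have : a x + -x = 0 := hx
    exact Additive.ofMul.injective (eq_of_sub_eq_zero (by rw [sub_eq_add_neg]; exact this))
  have hker : ∀ i : ℕ, Nat.card {x : Additive A // (δ ^ i) x = 0} ≤ p ^ (n * i) := by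
    intro i
    induction i with
    | zero =>
      rw [mul_zero, pow_zero]
      refine Finite.card_le_one_iff_subsingleton.2 ⟨fun x y => Subtype.ext ?_⟩
      exact (show x.1 = 0 from x.2).trans (show y.1 = 0 from y.2).symm
    | succ i ih =>
      classical
      have hD : ∀ x : {x : Additive A // (δ ^ (i + 1)) x = 0}, (δ ^ i) (δ x.1) = 0 := fun x => by
        rw [← Function.comp_apply (f := ⇑(δ ^ i)), ← AddMonoid.End.coe_mul, ← pow_succ]; exact x.2
      let D : {x : Additive A // (δ ^ (i + 1)) x = 0} → {x : Additive A // (δ ^ i) x = 0} :=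
        fun x => ⟨δ x.1, hD x⟩
      have : Nonempty {x : Additive A // (δ ^ (i + 1)) x = 0} := ⟨⟨0, map_zero _⟩⟩
      let s := Function.invFun D
      have hs : ∀ x, D (s (D x)) = D x := fun x => Function.invFun_eq ⟨x, rfl⟩
      have hsub : ∀ x, α (x.1 - (s (D x)).1).toMul = (x.1 - (s (D x)).1).toMul := fun x => by
        refine hfix _ ?_
        rw [map_sub, sub_eq_zero]
        exact (congrArg Subtype.val (hs x)).symm
      refine (Nat.card_le_card_of_injective
        (fun x => (D x, (⟨_, hsub x⟩ : {g : A // α g = g}))) fun x y e => ?_).trans ?_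
      · obtain ⟨e1, e2⟩ := Prod.mk.injEq .. ▸ e
        have e3 := Additive.toMul.injective (congrArg Subtype.val e2)
        have e4 : (s (D x)).1 = (s (D y)).1 := congrArg (fun z => (s z).1) e1
        change x.1 - (s (D x)).1 = y.1 - (s (D y)).1 at e3
        rw [e4] at e3
        exact Subtype.ext (sub_left_injective e3)
      · rw [Nat.card_prod, mul_add, mul_one, pow_add]
        exact Nat.mul_le_mul ih h.card_le
  refine le_trans ?_ (hker (p * j))
  exact Nat.card_le_card_of_injective (fun g : A => ⟨Additive.ofMul g, hzero _⟩)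
    fun g g' e => congrArg Subtype.val e

end CfsgLib.Alperin
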