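import Cfsg.Agent.Lib.LieFpf.Fpf
import Cfsg.Agent.Lib.Alperin.Fixed

/-!
# Lie rings with an automorphism of prime order and fixed points of bounded exponent
-/

set_option autoImplicit false

namespace CfsgLib.Alperin

open TensorProduct CfsgLib.LieFpf Polynomial

universe u

variable {L : Type u} [LieRing L] {R : Type} [CommRing R] {p : ℕ} [hp : Fact p.Prime]

/-- The multiples by `N` of the eigenspaces. -/
noncomputable def scaled (φ : L →+ L) (ζ : ZMod p → R) (N : ℕ) (d : ZMod p) :
    AddSubgroup (R ⊗[ℤ] L) :=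
  (eigen R φ ζ d).map (nsmulAddMonoidHom N)

theorem scaled_isGrading {ι : Type*} (b : Module.Basis ι ℤ R) (φ : L →+ L) (ζ : ZMod p → R)
    (hφ : ∀ x y, φ ⁅x, y⁆ = ⁅φ x, φ y⁆) {N : ℕ} (hfix : ∀ l, φ l = l → N • l = 0) (hζ0 : ζ 0 = 1)
    (hζ : ∀ i j, ζ (i + j) = ζ i * ζ j) : IsGrading (scaled φ ζ N) where
  lie_mem {i j a c} ha hc := by
    obtain ⟨a', ha', rfl⟩ := AddSubgroup.mem_map.1 ha
    obtain ⟨c', hc', rfl⟩ := AddSubgroup.mem_map.1 hc
    refine AddSubgroup.mem_map.2 ⟨N • ⁅a', c'⁆, nsmul_mem ?_ N, ?_⟩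
    · show mapExt R φ ⁅a', c'⁆ = _
      rw [mapExt_lie R φ hφ, show mapExt R φ a' = _ from ha', show mapExt R φ c' = _ from hc',
        ext_smul_lie, ext_lie_smul, smul_smul, hζ]
    · simp only [nsmulAddMonoidHom_apply, ext_nsmul_lie, ext_lie_nsmul]
  zero_eq_bot := by
    classical
    refine (AddSubgroup.eq_bot_iff_forall _).2 fun t ht => ?_
    obtain ⟨t, ht0, rfl⟩ := AddSubgroup.mem_map.1 ht
    have ht' : mapExt R φ t = t := by
      have h : mapExt R φ t = ζ 0 • t := ht0
      rwa [hζ0, one_smul] at h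
    let E := TensorProduct.equivFinsuppOfBasisLeft (M := R) (N := L) b
    refine E.injective ?_
    rw [map_zero, nsmulAddMonoidHom_apply, map_nsmul]
    refine Finsupp.ext fun k => ?_
    rw [Finsupp.smul_apply, Finsupp.zero_apply]
    refine hfix _ ?_
    have key : ∀ s : R ⊗[ℤ] L, E (mapExt R φ s) k = φ (E s k) := by
      intro s
      induction s using TensorProduct.induction_on with
      | zero => simp
      | add x y hx hy => simp only [map_add, Finsupp.add_apply, hx, hy]
      | tmul a l =>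
        rw [mapExt_tmul, TensorProduct.equivFinsuppOfBasisLeft_apply_tmul_apply,
          TensorProduct.equivFinsuppOfBasisLeft_apply_tmul_apply, map_zsmul]
    rw [← key, ht']

/-- Products of `c + 1` elements are killed by a power of `N * p`, when the fixed elements are
killed by `N`. -/
theorem nsmul_prodSpan_eq_zero_of_fixed {ι : Type*} (b : Module.Basis ι ℤ R) {k₀ : ι}
    (hb : b k₀ = 1) (φ : L →+ L) (ζ : ZMod p → R) (hφ : ∀ x y, φ ⁅x, y⁆ = ⁅φ x, φ y⁆) {N : ℕ}
    (hfix : ∀ l, φ l = l → N • l = 0) (hper : ∀ l, (⇑φ)^[p] l = l) (hζ0 : ζ 0 = 1)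
    (hζ : ∀ i j, ζ (i + j) = ζ i * ζ j)
    (hsum : ∀ c : ZMod p, c ≠ 0 → ∑ a : ZMod p, ζ (a * c) = 0) {c : ℕ}
    (hc : ∀ {A : Type u} [LieRing A] {V : ZMod p → AddSubgroup A}, IsGrading V → ∀ d, central V c d = ⊥)
    {l : L} (hl : l ∈ prodSpan L c) : (N * p) ^ (c + 1) • l = 0 := by
  classical
  have hgr := scaled_isGrading b φ ζ hφ hfix hζ0 hζ
  set V := scaled φ ζ N with hV
  have hbase : ∀ l : L, (N * p) • ((1 : R) ⊗ₜ[ℤ] l) = ∑ d : ZMod p, N • eigenPart φ ζ d l := fun l => by
    rw [← Finset.smul_sum, sum_eigenPart φ ζ hζ0 hsum, mul_smul]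
  have hmem : ∀ (d : ZMod p) (l : L), N • eigenPart φ ζ d l ∈ V d := fun d l =>
    AddSubgroup.mem_map.2 ⟨_, eigenPart_mem φ ζ hper hζ d l, rfl⟩
  have hdec : ∀ i, ∀ l ∈ prodSpan L i,
      (N * p) ^ (i + 1) • ((1 : R) ⊗ₜ[ℤ] l) ∈ ⨆ d, central V i d := by
    intro i
    induction i with
    | zero =>
      intro l _
      rw [zero_add, pow_one, hbase]
      exact AddSubgroup.sum_mem _ fun d _ => AddSubgroup.mem_iSup_of_mem d (hmem d l)
    | succ i ih =>
      intro l hl
      induction hl using AddSubgroup.closure_induction with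
      | mem x hx =>
        obtain ⟨a, w, hw, rfl⟩ := hx
        have e : ⁅(N * p) • ((1 : R) ⊗ₜ[ℤ] a), (N * p) ^ (i + 1) • ((1 : R) ⊗ₜ[ℤ] w)⁆
            = (N * p) ^ (i + 1 + 1) • ((1 : R) ⊗ₜ[ℤ] ⁅a, w⁆) := by
          rw [ext_nsmul_lie, ext_lie_nsmul, smul_smul, ← pow_succ',
            LieAlgebra.ExtendScalars.bracket_tmul, mul_one]
        rw [← e]
        have h2 := ih w hw
        generalize (N * p) ^ (i + 1) • ((1 : R) ⊗ₜ[ℤ] w) = y at h2 ⊢
        rw [hbase]
        induction h2 using AddSubgroup.iSup_induction' with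
        | hp k y hy =>
          rw [show ⁅∑ d : ZMod p, N • eigenPart φ ζ d a, y⁆
            = ∑ d : ZMod p, ⁅N • eigenPart φ ζ d a, y⁆ from sum_lie _ _ _]
          refine AddSubgroup.sum_mem _ fun d _ => AddSubgroup.mem_iSup_of_mem (d + k)
            (AddSubgroup.subset_closure ⟨d, _, hmem d a, y, ?_, rfl⟩)
          rwa [add_sub_cancel_left]
        | h1 => rw [ext_lie_zero]; exact zero_mem _
        | hadd _ _ _ _ hx hy => rw [ext_lie_add]; exact add_mem hx hy
      | zero => rw [TensorProduct.tmul_zero, smul_zero]; exact zero_mem _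
      | add x y _ _ hx hy => rw [TensorProduct.tmul_add, smul_add]; exact add_mem hx hy
      | neg x _ hx => rw [TensorProduct.tmul_neg, smul_neg]; exact neg_mem hx
  have h2 : (⨆ d, central V c d) = ⊥ := iSup_eq_bot.2 fun d => hc hgr d
  have h3 := hdec c l hl
  rw [h2, AddSubgroup.mem_bot, ← TensorProduct.tmul_smul] at h3
  have h4 := congrArg (fun s => TensorProduct.equivFinsuppOfBasisLeft (N := L) b s k₀) h3
  simp only [TensorProduct.equivFinsuppOfBasisLeft_apply_tmul_apply, map_zero, Finsupp.zero_apply] at h4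
  rwa [← hb, Module.Basis.repr_self, Finsupp.single_eq_same, one_smul] at h4

variable (p)

/-- In a `p`-group with at most `p ^ n` fixed points the `p ^ ((n + 1) * (c + 1))`-th powers of
`γ_c` lie in `γ_(c+1)`. -/
theorem pow_mem_gam_succ {G : Type u} [Group G] [Finite G] (hG : IsPGroup p G) {n c : ℕ}
    (hc : ∀ {A : Type u} [LieRing A] {V : ZMod p → AddSubgroup A}, IsGrading V → ∀ d, central V c d = ⊥)
    {α : MulAut G} (h : Small p n α) {g : G} (hg : g ∈ gam G c) :
    g ^ p ^ ((n + 1) * (c + 1)) ∈ gam G (c + 1) := by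
  classical
  let pb := AdjoinRoot.powerBasis' (cyclotomic.monic p ℤ)
  have hdim : 0 < pb.dim := by
    rw [AdjoinRoot.powerBasis'_dim, natDegree_cyclotomic, Nat.totient_pos]
    exact hp.out.pos
  have h5 : ∀ (i : ℕ) (g : G) (hg : g ∈ gam G i) (k : ℕ),
      k • iota i g hg = iota i (g ^ k) (pow_mem hg k) := by
    intro i g hg k
    induction k with
    | zero => rw [zero_smul, ← iota_one i]; exact iota_congr rfl (pow_zero g).symm
    | succ k ih => rw [succ_nsmul, ih, ← iota_mul]; exact iota_congr rfl (pow_succ g k).symm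
  have hfix : ∀ l : LieLcs G, autLie α l = l → p ^ n • l = 0 := fun l hl => by
    refine DirectSum.ext fun i => ?_
    obtain ⟨g, hg⟩ := layerMk_surjective i (l i).toMul
    have hli : l i = Additive.ofMul (layerMk i g) := by rw [hg]; rfl
    have h1 : Additive.ofMul (layerMk i (⟨α g, map_mem_gam α g.2⟩ : gam G i)) = l i := by
      conv_rhs => rw [← hl, autLie, DirectSum.map_apply, hli]
      rfl
    rw [hli] at h1
    have h2 : ((g : G))⁻¹ * α g ∈ gam G (i + 1) := layerMk_eq.1 (Additive.ofMul.injective h1).symm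
    have := gam_normal (G := G) (i + 1)
    obtain ⟨β, hβ, hβmk⟩ := h.exists_quotient (gam G (i + 1)) fun x hx => map_mem_gam α hx
    let Fx : Subgroup (G ⧸ gam G (i + 1)) :=
      { carrier := {x | β x = x}
        one_mem' := map_one β
        mul_mem' := fun {a b} ha hb => by
          show β (a * b) = a * b
          rw [map_mul, show β a = a from ha, show β b = b from hb]
        inv_mem' := fun {a} ha => by
          show β a⁻¹ = a⁻¹
          rw [map_inv, show β a = a from ha] }
    obtain ⟨k, hk⟩ := IsPGroup.iff_card.1 ((hG.to_quotient _).to_subgroup Fx)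
    have hkn : k ≤ n := by
      refine (Nat.pow_le_pow_iff_right hp.out.one_lt).1 (hk ▸ ?_)
      exact hβ.card_le
    have hgF : ((g : G) : G ⧸ gam G (i + 1)) ∈ Fx := by
      show β _ = _
      rw [hβmk]
      exact (QuotientGroup.eq.2 h2).symm
    have h3 : ((g : G) : G ⧸ gam G (i + 1)) ^ p ^ n = 1 := by
      have := orderOf_dvd_natCard (⟨_, hgF⟩ : Fx)
      rw [hk, Subgroup.orderOf_mk] at this
      exact orderOf_dvd_iff_pow_eq_one.1 (this.trans (pow_dvd_pow p hkn))
    rw [← QuotientGroup.mk_pow, QuotientGroup.eq_one_iff] at h3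
    show p ^ n • l i = 0
    rw [hli, ← ofMul_pow, ← map_pow, layerMk_eq_one.2 (show ((g ^ p ^ n : gam G i) : G) ∈ _ from h3)]
    rfl
  have h4 := nsmul_prodSpan_eq_zero_of_fixed pb.basis (k₀ := ⟨0, hdim⟩)
    (by rw [PowerBasis.basis_eq_pow, pow_zero]) (autLie α) (rootPow p) (autLie_lie α) hfix
    (autLie_iterate_prime p α h.pow_eq) (rootPow_zero p) (rootPow_add p)
    (fun c hc => sum_rootPow_mul p hc) hc (iota_mem_prodSpan c g hg)
  rw [h5, iota, ← map_zero (DirectSum.of (fun i => Additive (Layer G i)) c)] at h4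
  have h6 := layerMk_eq_one.1
    (Additive.ofMul.injective (DirectSum.of_injective (β := fun i => Additive (Layer G i)) c h4))
  rwa [← pow_succ, ← pow_mul] at h6

end CfsgLib.Alperin
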