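import Cfsg.Agent.Lib.Alperin.LieStep
import Cfsg.Agent.Lib.StructC.BurnsideBasis

/-!
# The derived length of a `p`-group with few fixed points of an automorphism of order `p`
-/

set_option autoImplicit false

namespace CfsgLib.Alperin

open Subgroup CfsgLib.LieFpf
open scoped commutatorElement

universe u

variable {G : Type u} [Group G]

/-- A solvable group of order at most `m` has derived length at most `m`. -/
theorem derivedSeries_eq_bot_of_card_le [Finite G] [Group.IsSolvable G] {m : ℕ}
    (hm : Nat.card G ≤ m) : derivedSeries G m = ⊥ := by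
  have key : ∀ i, derivedSeries G i = ⊥ ∨ Nat.card (derivedSeries G i) + i ≤ Nat.card G := by
    intro i
    induction i with
    | zero => right; rw [derivedSeries_zero, Subgroup.card_top, add_zero]
    | succ i ih =>
      rcases ih with h | h
      · left; rw [derivedSeries_succ, h, commutator_bot_left]
      · by_cases h1 : derivedSeries G i = ⊥
        · left; rw [derivedSeries_succ, h1, commutator_bot_left]
        · right
          have hlt : derivedSeries G (i + 1) < derivedSeries G i :=
            Group.IsSolvable.commutator_lt_of_ne_bot h1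
          have := Set.Finite.card_lt_card (Set.toFinite (derivedSeries G i : Set G))
            (SetLike.coe_ssubset_coe.2 hlt)
          simp only [SetLike.coe_sort_coe] at this
          omega
  rcases key m with h | h
  · exact h
  · exact absurd h (by have := Nat.card_pos (α := derivedSeries G m); omega)

/-- Derived lengths add along a subgroup containing a term of the derived series. -/
theorem derivedSeries_add_eq_bot {a b : ℕ} (S : Subgroup G) (h : derivedSeries G a ≤ S)
    (hb : derivedSeries S b = ⊥) : derivedSeries G (a + b) = ⊥ := by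
  have key : ∀ j, derivedSeries G (a + j) ≤ (derivedSeries S j).map S.subtype := by
    intro j
    induction j with
    | zero => rwa [add_zero, derivedSeries_zero, ← MonoidHom.range_eq_map, Subgroup.range_subtype]
    | succ j ih =>
      rw [← add_assoc, derivedSeries_succ, derivedSeries_succ, map_commutator]
      exact commutator_mono ih ih
  refine le_bot_iff.1 ((key b).trans ?_)
  rw [hb, Subgroup.map_bot]

/-- A quotient of derived length at most `a` gives a term inside the normal subgroup. -/
theorem derivedSeries_le_of_quotient {a : ℕ} (N : Subgroup G) [N.Normal]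
    (h : derivedSeries (G ⧸ N) a = ⊥) : derivedSeries G a ≤ N := by
  intro g hg
  have := mem_map_of_mem (QuotientGroup.mk' N) hg
  rw [map_derivedSeries_eq (QuotientGroup.mk'_surjective N), h, mem_bot] at this
  exact (QuotientGroup.eq_one_iff g).1 this

/-- The derived series is below the lower central series. -/
theorem derivedSeries_le_gam (i : ℕ) : derivedSeries G i ≤ gam G i := by
  induction i with
  | zero => exact le_rfl
  | succ i ih =>
    rw [derivedSeries_succ]
    exact commutator_mono ih le_top

/-- In a nilpotent group a subgroup inside its commutator with the whole group is trivial. -/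
theorem eq_bot_of_le_commutator_top [Group.IsNilpotent G] {X : Subgroup G}
    (h : X ≤ ⁅X, (⊤ : Subgroup G)⁆) : X = ⊥ := by
  obtain ⟨k, hk⟩ := Subgroup.nilpotent_iff_lowerCentralSeries.1 (inferInstance : Group.IsNilpotent G)
  have key : ∀ j, X ≤ gam G j := by
    intro j
    induction j with
    | zero => exact le_top
    | succ j ih => exact h.trans (commutator_mono ih le_rfl)
  exact le_bot_iff.1 ((key k).trans hk.le)

/-- The elements centralising `A` modulo `B`. -/
def secCentralizer (A B : Subgroup G) [B.Normal] : Subgroup G :=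
  (centralizer (A.map (QuotientGroup.mk' B) : Set (G ⧸ B))).comap (QuotientGroup.mk' B)

theorem mem_secCentralizer {A B : Subgroup G} [B.Normal] {g : G} :
    g ∈ secCentralizer A B ↔ ∀ a ∈ A, ⁅g, a⁆ ∈ B := by
  rw [secCentralizer, mem_comap, mem_centralizer_iff_commutator_eq_one]
  refine ⟨fun h a ha => ?_, fun h x hx => ?_⟩
  · have h1 := h _ ⟨a, ha, rfl⟩
    rw [← map_commutatorElement, ← MonoidHom.mem_ker, QuotientGroup.ker_mk'] at h1
    exact commutatorElement_inv a g ▸ inv_mem h1
  · obtain ⟨a, ha, rfl⟩ := hx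
    rw [← map_commutatorElement, ← MonoidHom.mem_ker, QuotientGroup.ker_mk']
    exact commutatorElement_inv g a ▸ inv_mem (h a ha)

theorem secCentralizer_normal {A B : Subgroup G} [hA : A.Normal] [B.Normal] :
    (secCentralizer A B).Normal := by
  have := hA.map (QuotientGroup.mk' B) (QuotientGroup.mk'_surjective B)
  exact Subgroup.Normal.comap inferInstance _

/-- The derived series reaches the centraliser of an invariant abelian section. -/
theorem derivedSeries_le_secCentralizer [Finite G] [Group.IsSolvable G] {p n j : ℕ} (hp : p.Prime)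
    {α : MulAut G} (h : Small p n α) (A B : Subgroup G) [hA : A.Normal] [B.Normal]
    (hAα : ∀ x ∈ A, α x ∈ A) (hBα : ∀ x ∈ B, α x ∈ B) (hab : ⁅A, A⁆ ≤ B)
    (hexp : ∀ a ∈ A, a ^ p ^ j ∈ B) :
    derivedSeries G (p ^ (n * (p * j))).factorial ≤ secCentralizer A B := by
  classical
  obtain ⟨β, hβ, hβmk⟩ := h.exists_quotient B hBα
  set π := QuotientGroup.mk' B
  set Ā := A.map π with hĀ
  have hĀn : Ā.Normal := hA.map π (QuotientGroup.mk'_surjective B)
  have hĀβ : ∀ x ∈ Ā, β x ∈ Ā := by
    rintro _ ⟨a, ha, rfl⟩
    exact ⟨α a, hAα a ha, (hβmk a).symm⟩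
  have hcomm : ∀ x y : Ā, x * y = y * x := by
    rintro ⟨_, a, ha, rfl⟩ ⟨_, b, hb, rfl⟩
    refine Subtype.ext (commutatorElement_eq_one_iff_mul_comm.1 ?_)
    show ⁅π a, π b⁆ = 1
    rw [← map_commutatorElement, ← MonoidHom.mem_ker, QuotientGroup.ker_mk']
    exact hab (commutator_mem_commutator ha hb)
  let _ : CommGroup Ā := { (inferInstance : Group Ā) with mul_comm := hcomm }
  have hcard : Nat.card Ā ≤ p ^ (n * (p * j)) := by
    refine card_le_of_comm hp (hβ.restrict Ā hĀβ) ?_
    rintro ⟨_, a, ha, rfl⟩
    refine Subtype.ext ?_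
    show π a ^ p ^ j = 1
    rw [← map_pow, ← MonoidHom.mem_ker, QuotientGroup.ker_mk']
    exact hexp a ha
  set θ : G →* MulAut Ā := MulAut.conjNormal.comp π
  have hcardR : Nat.card θ.range ≤ (p ^ (n * (p * j))).factorial := by
    refine le_trans ?_ (Nat.factorial_le hcard)
    rw [← Nat.card_perm]
    exact Nat.card_le_card_of_injective (fun f : θ.range => (f.1 : MulAut Ā).toEquiv)
      fun f f' e => Subtype.ext (MulEquiv.toEquiv_injective e)
  have : Group.IsSolvable θ.range := solvable_of_surjective θ.rangeRestrict_surjective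
  intro g hg
  have h1 := mem_map_of_mem θ.rangeRestrict hg
  rw [map_derivedSeries_eq θ.rangeRestrict_surjective, derivedSeries_eq_bot_of_card_le hcardR,
    mem_bot] at h1
  have h2 : θ g = 1 := congrArg Subtype.val h1
  rw [secCentralizer, mem_comap, mem_centralizer_iff]
  intro x hx
  have h3 := congrArg Subtype.val (DFunLike.congr_fun h2 (⟨x, hx⟩ : Ā))
  simp only [θ, MonoidHom.comp_apply, MulAut.conjNormal_apply, MulAut.one_apply] at h3
  exact (mul_inv_eq_iff_eq_mul.1 h3).symm

/-- An invariant abelian section of exponent dividing `p ^ j`. -/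
structure Sec (p j : ℕ) (α : MulAut G) where
  /-- The top. -/
  top : Subgroup G
  /-- The bottom. -/
  bot : Subgroup G
  top_normal : top.Normal
  bot_normal : bot.Normal
  top_inv : ∀ x ∈ top, α x ∈ top
  bot_inv : ∀ x ∈ bot, α x ∈ bot
  comm : ⁅top, top⁆ ≤ bot
  exp : ∀ a ∈ top, a ^ p ^ j ∈ bot

/-- The centraliser of all invariant abelian sections of exponent dividing `p ^ j`. -/
def allCentralizer (p j : ℕ) (α : MulAut G) : Subgroup G :=
  ⨅ s : Sec p j α, (haveI := s.bot_normal; secCentralizer s.top s.bot)

/-- The subgroup generated by the `k`-th powers of elements of `N`. -/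
def powSub (N : Subgroup G) (k : ℕ) : Subgroup G := closure ((fun g => g ^ k) '' (N : Set G))

theorem pow_mem_powSub {N : Subgroup G} {k : ℕ} {g : G} (hg : g ∈ N) : g ^ k ∈ powSub N k :=
  subset_closure ⟨g, hg, rfl⟩

theorem powSub_le {N M : Subgroup G} {k : ℕ} (h : ∀ g ∈ N, g ^ k ∈ M) : powSub N k ≤ M :=
  (closure_le _).2 (by rintro _ ⟨g, hg, rfl⟩; exact h g hg)

theorem map_mem_powSub {N : Subgroup G} {k : ℕ} (f : G →* G) (hf : ∀ x ∈ N, f x ∈ N) {x : G}
    (hx : x ∈ powSub N k) : f x ∈ powSub N k := by
  refine (powSub_le (M := (powSub N k).comap f) fun g hg => ?_) hx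
  rw [mem_comap, map_pow]
  exact pow_mem_powSub (hf g hg)

theorem powSub_normal {N : Subgroup G} [hN : N.Normal] (k : ℕ) : (powSub N k).Normal :=
  ⟨fun _ hx g => map_mem_powSub (MulAut.conj g).toMonoidHom (fun y hy => hN.conj_mem y hy g) hx⟩

variable (p : ℕ) [hp : Fact p.Prime]

/-- The `p`-th powers' exponent for the lower central step. -/
def expBound (n : ℕ) : ℕ := (n + 1) * (xi p (2 ^ (p - 1) - 1) + 1)

/-- The bound for the derived length of a `p`-group. -/
def pBound (n : ℕ) : ℕ :=
  (p ^ (n * (p * (expBound p n + 1)))).factorial + (xi p (2 ^ (p - 1) - 1) + 1)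

theorem one_le_xi : 1 ≤ xi p (2 ^ (p - 1) - 1) := by
  have h0 : 0 ∈ Finset.range (2 ^ (p - 1) - 1) := by
    rw [Finset.mem_range]
    have : 2 ^ 1 ≤ 2 ^ (p - 1) := Nat.pow_le_pow_right two_pos (by have := hp.out.two_le; omega)
    omega
  have := Finset.single_le_sum (f := fun i => (p - 1) ^ i) (fun i _ => Nat.zero_le _) h0
  simpa [xi] using this

/-- Alperin: the derived length of a `p`-group is bounded in terms of `p` and the number of
fixed points of an automorphism of order `p`. -/
theorem derivedSeries_eq_bot_of_isPGroup [Finite G] (hG : IsPGroup p G) {n : ℕ} {α : MulAut G}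
    (h : Small p n α) : derivedSeries G (pBound p n) = ⊥ := by
  classical
  have hnil : Group.IsNilpotent G := hG.isNilpotent
  have hsol : Group.IsSolvable G := inferInstance
  set c := xi p (2 ^ (p - 1) - 1) with hc0
  set e := expBound p n with he
  set V := allCentralizer p (e + 1) α with hVdef
  have hVn : V.Normal := Subgroup.normal_iInf_normal fun s =>
    haveI := s.bot_normal; haveI := s.top_normal; secCentralizer_normal
  have hmemV : ∀ {g : G}, g ∈ V ↔ ∀ s : Sec p (e + 1) α, ∀ a ∈ s.top, ⁅g, a⁆ ∈ s.bot := by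
    intro g
    rw [hVdef, allCentralizer, mem_iInf]
    exact forall_congr' fun s => haveI := s.bot_normal; mem_secCentralizer
  have hVα : ∀ x ∈ V, α x ∈ V := fun x hx => hmemV.2 fun s a ha => by
    obtain ⟨a', ha', rfl⟩ := (Complement.map_eq_of_invariant α s.top s.top_inv).ge ha
    show ⁅α x, α a'⁆ ∈ s.bot
    rw [← map_commutatorElement]
    exact s.bot_inv _ (hmemV.1 hx s a' ha')
  have hstep1 : derivedSeries G (p ^ (n * (p * (e + 1)))).factorial ≤ V :=
    le_iInf fun s => haveI := s.bot_normal; haveI := s.top_normal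
      derivedSeries_le_secCentralizer hp.out h s.top s.bot s.top_inv s.bot_inv s.comm s.exp
  refine derivedSeries_add_eq_bot V hstep1 (le_bot_iff.1 ((derivedSeries_le_gam _).trans ?_))
  -- the lower central series of `V`, inside `G`
  have hlcs : ∀ i, V.lowerCentralSeries i = (gam V i).map V.subtype := fun i => by
    rw [Subgroup.map_lowerCentralSeries, ← MonoidHom.range_eq_map, Subgroup.range_subtype]
  set N := V.lowerCentralSeries c with hN
  set M := V.lowerCentralSeries (c + 1) with hM
  have hNn : N.Normal := StructC.normal_lowerCentralSeries V c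
  have hNα : ∀ x ∈ N, α x ∈ N := fun x hx => by
    have e1 := Subgroup.map_lowerCentralSeries V α.toMonoidHom c
    rw [Complement.map_eq_of_invariant α V hVα] at e1
    exact e1.le (mem_map_of_mem _ hx)
  have hpow : ∀ g ∈ N, g ^ p ^ e ∈ M := fun g hg => by
    obtain ⟨y, hy, rfl⟩ := (hlcs c).le hg
    rw [hM, hlcs, ← map_pow]
    exact mem_map_of_mem _ (pow_mem_gam_succ p (hG.to_subgroup V)
      (fun hgr d => central_eq_bot hgr d) (h.restrict V hVα) hy)
  have hNN : ⁅N, N⁆ ≤ ⁅M, V⁆ := by
    refine le_trans ?_ (show V.lowerCentralSeries (c + 2) ≤ ⁅M, V⁆ from le_rfl)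
    rw [hN, hlcs, hlcs, ← map_commutator]
    refine Subgroup.map_mono (commutator_le.2 fun x hx y hy => ?_)
    exact gam_mono (by have := one_le_xi p; omega) (commutator_mem_gam hx hy)
  set A := powSub N (p ^ (e + 1)) with hA
  set T := powSub N (p ^ e) with hT
  have hAn : A.Normal := powSub_normal _
  have hBn : (A ⊔ ⁅N, N⁆).Normal := inferInstance
  have hB : M ≤ A ⊔ ⁅N, N⁆ := by
    have hBα : ∀ x ∈ A ⊔ ⁅N, N⁆, α x ∈ A ⊔ ⁅N, N⁆ := fun x hx => by
      refine (sup_le ?_ ?_ : A ⊔ ⁅N, N⁆ ≤ (A ⊔ ⁅N, N⁆).comap α.toMonoidHom) hx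
      · exact fun y hy => mem_sup_left (map_mem_powSub α.toMonoidHom hNα hy)
      · refine commutator_le.2 fun a ha b hb => ?_
        rw [mem_comap, map_commutatorElement]
        exact mem_sup_right (commutator_mem_commutator (hNα a ha) (hNα b hb))
    let s : Sec p (e + 1) α :=
      ⟨N, A ⊔ ⁅N, N⁆, hNn, hBn, hNα, hBα, le_sup_right, fun a ha => mem_sup_left (pow_mem_powSub ha)⟩
    show ⁅N, V⁆ ≤ _
    refine commutator_le.2 fun a ha g hg => ?_
    rw [← commutatorElement_inv]
    exact inv_mem (hmemV.1 hg s a ha)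
  have hMA : M ≤ A := by
    have : Group.IsNilpotent (G ⧸ A) := (hG.to_quotient A).isNilpotent
    have h1 : M.map (QuotientGroup.mk' A) = ⊥ := eq_bot_of_le_commutator_top <| by
      refine (Subgroup.map_mono hB).trans ?_
      rw [Subgroup.map_sup, show A.map (QuotientGroup.mk' A) = ⊥ from
        (Subgroup.map_eq_bot_iff _).2 (QuotientGroup.ker_mk' A).ge, bot_sup_eq]
      refine (Subgroup.map_mono hNN).trans ?_
      rw [map_commutator]
      exact commutator_mono le_rfl le_top
    rwa [Subgroup.map_eq_bot_iff, QuotientGroup.ker_mk'] at h1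
  have hAT : A ≤ (frattini T).map T.subtype := powSub_le fun g hg =>
    ⟨(⟨g ^ p ^ e, pow_mem_powSub hg⟩ : T) ^ p, StructC.pow_mem_frattini (hG.to_subgroup T) _, by
      show (g ^ p ^ e) ^ p = _
      rw [← pow_mul, ← pow_succ]⟩
  have hTbot : T = ⊥ := by
    have h1 : frattini T = ⊤ := eq_top_iff.2 fun x _ => by
      obtain ⟨y, hy, e1⟩ := hAT (hMA (powSub_le hpow x.2))
      rwa [← Subtype.ext e1]
    have h2 : (⊥ : Subgroup T) = ⊤ := frattini_nongenerating (by rw [h1, sup_top_eq])
    exact (eq_bot_iff_forall _).2 fun x hx => by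
      have := h2.ge (mem_top (⟨x, hx⟩ : T))
      exact congrArg Subtype.val (mem_bot.1 this)
  have hAbot : A = ⊥ := le_bot_iff.1 (hAT.trans ((map_subtype_le _).trans hTbot.le))
  refine le_of_eq (Subgroup.map_injective V.subtype_injective ?_)
  rw [← hlcs, Subgroup.map_bot, ← hM]
  exact le_bot_iff.1 (hMA.trans hAbot.le)

end CfsgLib.Alperin
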